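import Cfsg.Agent.Helper7.ModTC.Stem

/-!
# The main theorem on stem extensions and labelled coset tables
-/

set_option autoImplicit false

namespace Cfsg.Agent.Helper7.ModTC

open scoped commutatorElement

universe u v

variable {Γ : Type u} {G : Type v} [Group Γ] [Group G]

/-- commutators do not see central factors -/
theorem commutatorElement_mul_central (a b k₁ k₂ : Γ) (h₁ : k₁ ∈ Subgroup.center Γ)
    (h₂ : k₂ ∈ Subgroup.center Γ) : ⁅a * k₁, b * k₂⁆ = ⁅a, b⁆ := by
  have c1 := fun g => Subgroup.mem_center_iff.mp h₁ g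
  have c2 := fun g => Subgroup.mem_center_iff.mp h₂ g
  have c1' := fun g => Subgroup.mem_center_iff.mp (Subgroup.inv_mem _ h₁) g
  have c2' := fun g => Subgroup.mem_center_iff.mp (Subgroup.inv_mem _ h₂) g
  rw [commutatorElement_def, commutatorElement_def, mul_inv_rev, mul_inv_rev]
  calc a * k₁ * (b * k₂) * (k₁⁻¹ * a⁻¹) * (k₂⁻¹ * b⁻¹)
      = a * (k₁ * b) * (k₂ * k₁⁻¹) * a⁻¹ * k₂⁻¹ * b⁻¹ := by group
    _ = a * (b * k₁) * (k₂ * k₁⁻¹) * a⁻¹ * k₂⁻¹ * b⁻¹ := by rw [c1 b]
    _ = a * b * (k₁ * k₂ * k₁⁻¹) * (a⁻¹ * k₂⁻¹) * b⁻¹ := by group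
    _ = a * b * (k₂ * k₁ * k₁⁻¹) * (k₂⁻¹ * a⁻¹) * b⁻¹ := by rw [c2 k₁, c2' a⁻¹]
    _ = a * b * (k₂ * k₂⁻¹) * a⁻¹ * b⁻¹ := by group
    _ = a * b * a⁻¹ * b⁻¹ := by group

theorem stem_main [Finite Γ] (σ : Γ →* G) (hσ : Cfsg.IsStemExtension σ)
    (C : Cert) (k m : ℕ) (rels zws : ℕ → List ℕ) (x : ℕ → G)
    (hnl : C.nl = 2 * k) (hbase : C.base = mkBase m k rels zws)
    (hx : ∀ i, k ≤ i → x i = 1) (hzws : ∀ i, k ≤ i → zws i = [])
    (hG1 : ∀ b < m, ev x (rels b) = 1)
    (hG2 : ∀ i < k, ev x (zws i) = x i)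
    (hG3 : ∀ i < k, Cert.isZero (esum (zws i)) = true)
    (hG4 : ∀ c < C.N, ∀ c' < C.N, ev x (C.tw c) = ev x (C.tw c') → c = c')
    (htw0 : C.tw 0 = []) (hN : 0 < C.N)
    (hchk : ∀ c l, c < C.N → l < C.nl → C.chkEdge c l = true) :
    Nat.card (Subgroup.closure (Set.range x)) = C.N ∧
    ∃ z : ℕ → Γ, (∀ j, z j ∈ Subgroup.center Γ) ∧ (∀ j, m ≤ j → z j = 1) ∧
      (∀ bd b s ρ, C.relVec bd b s = some ρ → zpv z 0 ρ = 1) ∧
      ∀ g ∈ σ.ker, ∃ w : List ℤ,
        g ^ (Subgroup.closure (Set.range x)).index = zpv z 0 w := by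
  classical
  have hker : ∀ g, g ∈ σ.ker → g ∈ Subgroup.center Γ := fun g hg => hσ.2.1 hg
  -- lifts
  choose xt hxt using fun i => hσ.1 (x i)
  let X : ℕ → Γ := fun i => ev xt (zws i)
  have hσxt : (fun i => σ (xt i)) = x := funext hxt
  have hσX : ∀ i, σ (X i) = x i := by
    intro i
    show σ (ev xt (zws i)) = x i
    rw [ev_map, hσxt]
    rcases Nat.lt_or_ge i k with hi | hi
    · exact hG2 i hi
    · rw [hzws i hi, hx i hi]; rfl
  have hσX' : (fun i => σ (X i)) = x := funext hσX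
  have hXk : ∀ i, k ≤ i → X i = 1 := by
    intro i hi
    show ev xt (zws i) = 1
    rw [hzws i hi]; rfl
  let kk : ℕ → Γ := fun i => (xt i)⁻¹ * X i
  have hkk : ∀ i, kk i ∈ Subgroup.center Γ := by
    intro i
    apply hker
    rw [MonoidHom.mem_ker, map_mul, map_inv, hσX, hxt, inv_mul_cancel]
  have hXeq : X = fun i => xt i * kk i := by
    funext i
    show X i = xt i * ((xt i)⁻¹ * X i)
    group
  have hevX : ∀ w, ev X w = ev xt w * zpv kk 0 (esum w) := by
    intro w
    rw [hXeq]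
    exact ev_shift xt kk hkk w
  have hXw : ∀ i < k, ev X (zws i) = X i := by
    intro i hi
    rw [hevX, Cert.isZero_spec (hG3 i hi), mul_one]
  -- the central elements
  let z : ℕ → Γ := fun j => if j < m then ev X (rels j) else 1
  have hzker : ∀ j, z j ∈ σ.ker := by
    intro j
    show (if j < m then ev X (rels j) else 1) ∈ σ.ker
    split_ifs with hj
    · rw [MonoidHom.mem_ker, ev_map, hσX']
      exact hG1 j hj
    · exact Subgroup.one_mem _
  have hz : ∀ j, z j ∈ Subgroup.center Γ := fun j => hker _ (hzker j)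
  have hb : C.BaseOK X z := by
    intro b
    rw [hbase]
    unfold mkBase
    split_ifs with h1 h2
    · show ev X (rels b) = zpv z 0 (padUnit m b)
      rw [zpv_padUnit]
      show ev X (rels b) = if b < m then ev X (rels b) else 1
      rw [if_pos h1]
    · show ev X ((2 * (b - m) + 1) :: zws (b - m)) = zpv z 0 (List.replicate m 0)
      rw [zpv_replicate, ev_cons, hXw (b - m) (by omega)]
      have : evL X (2 * (b - m) + 1) = (X (b - m))⁻¹ := by
        unfold evL
        rw [if_neg (by omega)]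
        congr 2
        omega
      rw [this, inv_mul_cancel]
    · rfl
  have hv : ∀ c l, c < C.N → l < C.nl → C.Valid X z c l :=
    fun c l hc hl => C.valid_all hz hb hchk hc hl
  -- images
  have hσz : ∀ w, σ (zpv z 0 w) = 1 := fun w => zpv_mem z σ.ker hzker 0 w
  have hσrep : ∀ c, σ (C.rep X c) = ev x (C.tw c) := by
    intro c
    show σ (ev X (C.tw c)) = _
    rw [ev_map, hσX']
  have hform : ∀ g ∈ Subgroup.closure (Set.range X),
      ∃ c < C.N, ∃ w : List ℤ, g = zpv z 0 w * C.rep X c :=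
    fun g hg => mem_closure_form C k X z hz hnl hXk htw0 hN hchk hv hg
  have hmap : (Subgroup.closure (Set.range X)).map σ = Subgroup.closure (Set.range x) := by
    rw [MonoidHom.map_closure, ← Set.range_comp]
    congr 2
  have hP : ∀ p ∈ Subgroup.closure (Set.range x), ∃ c < C.N, p = ev x (C.tw c) := by
    intro p hp
    rw [← hmap] at hp
    obtain ⟨g, hg, rfl⟩ := hp
    obtain ⟨c, hc, w, rfl⟩ := hform g hg
    exact ⟨c, hc, by rw [map_mul, hσz, one_mul, hσrep]⟩
  refine ⟨?_, z, hz, ?_, ?_, ?_⟩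
  · -- the order of `P`
    let f : Fin C.N → Subgroup.closure (Set.range x) :=
      fun c => ⟨ev x (C.tw c.val), ev_mem_closure x _⟩
    have hbij : Function.Bijective f := by
      constructor
      · intro c c' e
        exact Fin.ext (hG4 c.val c.isLt c'.val c'.isLt (congrArg Subtype.val e))
      · rintro ⟨p, hp⟩
        obtain ⟨c, hc, rfl⟩ := hP p hp
        exact ⟨⟨c, hc⟩, rfl⟩
    rw [← Nat.card_eq_of_bijective f hbij, Nat.card_fin]
  · intro j hj
    show (if j < m then ev X (rels j) else 1) = 1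
    rw [if_neg (by omega)]
  · intro bd b s ρ h
    exact C.relVec_spec hz hb hv h
  · intro g hg
    have h1 := Cfsg.Agent.Helper96.StemBound.ker_pow_index_mem σ hσ
      (Subgroup.closure (Set.range x)) hg
    have h2 : ⁅(Subgroup.closure (Set.range x)).comap σ,
        (Subgroup.closure (Set.range x)).comap σ⁆ ≤ Subgroup.closure (Set.range X) := by
      rw [Subgroup.commutator_le]
      have hdec : ∀ a ∈ (Subgroup.closure (Set.range x)).comap σ,
          ∃ l ∈ Subgroup.closure (Set.range X), ∃ c ∈ Subgroup.center Γ, a = l * c := by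
        intro a ha
        rw [Subgroup.mem_comap, ← hmap] at ha
        obtain ⟨l, hl, e⟩ := ha
        refine ⟨l, hl, l⁻¹ * a, ?_, by group⟩
        apply hker
        rw [MonoidHom.mem_ker, map_mul, map_inv, e, inv_mul_cancel]
      intro a ha b hb'
      obtain ⟨l₁, hl₁, c₁, hc₁, rfl⟩ := hdec a ha
      obtain ⟨l₂, hl₂, c₂, hc₂, rfl⟩ := hdec b hb'
      rw [commutatorElement_mul_central _ _ _ _ hc₁ hc₂]
      rw [commutatorElement_def]
      exact Subgroup.mul_mem _ (Subgroup.mul_mem _ (Subgroup.mul_mem _ hl₁ hl₂)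
        (Subgroup.inv_mem _ hl₁)) (Subgroup.inv_mem _ hl₂)
    obtain ⟨c, hc, w, e⟩ := hform _ (h2 h1)
    have h3 : σ (g ^ (Subgroup.closure (Set.range x)).index) = 1 := by
      rw [map_pow, MonoidHom.mem_ker.mp hg, one_pow]
    rw [e, map_mul, hσz, one_mul, hσrep] at h3
    have h0 : ev x (C.tw 0) = 1 := by rw [htw0]; rfl
    have hc0 : c = 0 := hG4 c hc 0 hN (by rw [h3, h0])
    refine ⟨w, ?_⟩
    rw [e, hc0]
    show zpv z 0 w * ev X (C.tw 0) = _
    rw [htw0, ev_nil, mul_one]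

end Cfsg.Agent.Helper7.ModTC
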