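import Cfsg.Agent.Helper7.ModTC.Stem

/-!
# Integer combinations of relation vectors
-/

set_option autoImplicit false

namespace Cfsg.Agent.Helper7.ModTC

/-- integer combination of vectors -/
def lincomb : List ℤ → List (List ℤ) → List ℤ
  | n :: ns, ρ :: ρs => vadd (vsmul n ρ) (lincomb ns ρs)
  | [], _ => []
  | _ :: _, [] => []

variable {Γ : Type*} [Group Γ] {z : ℕ → Γ}

theorem zpv_lincomb (hz : ∀ j, z j ∈ Subgroup.center Γ) (ρs : List (List ℤ))
    (hρ : ∀ ρ ∈ ρs, zpv z 0 ρ = 1) (ns : List ℤ) : zpv z 0 (lincomb ns ρs) = 1 := by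
  induction ns generalizing ρs with
  | nil => rfl
  | cons n ns ih =>
    cases ρs with
    | nil => rfl
    | cons ρ ρs =>
      rw [lincomb, zpv_vadd hz, zpv_vsmul hz, hρ ρ (by simp), one_zpow, one_mul]
      exact ih ρs fun ρ' h => hρ ρ' (by simp [h])

/-- the relation vectors of a list of closed walks -/
def relList (C : Cert) (bd : ℕ) (pairs : List (ℕ × ℕ)) : List (List ℤ) :=
  pairs.map fun p => (C.relVec bd p.1 p.2).getD []

theorem relList_spec {C : Cert} {bd : ℕ} {pairs : List (ℕ × ℕ)}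
    (h : ∀ bd b s ρ, C.relVec bd b s = some ρ → zpv z 0 ρ = 1) :
    ∀ ρ ∈ relList C bd pairs, zpv z 0 ρ = 1 := by
  intro ρ hρ
  simp only [relList, List.mem_map] at hρ
  obtain ⟨p, _, rfl⟩ := hρ
  cases hr : C.relVec bd p.1 p.2 with
  | none => rfl
  | some ρ' => exact h _ _ _ _ hr

/-- if the unit vectors are combinations of relations, all the central elements are trivial -/
theorem all_one (hz : ∀ j, z j ∈ Subgroup.center Γ) (m : ℕ) (hzm : ∀ j, m ≤ j → z j = 1)
    (ρs : List (List ℤ)) (hρ : ∀ ρ ∈ ρs, zpv z 0 ρ = 1) (U : List (List ℤ))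
    (hU : ∀ j < m, lincomb (U.getD j []) ρs = padUnit m j) (w : List ℤ) : zpv z 0 w = 1 := by
  have h1 : ∀ j, z j = 1 := by
    intro j
    rcases Nat.lt_or_ge j m with hj | hj
    · rw [← zpv_padUnit z m j, ← hU j hj]
      exact zpv_lincomb hz ρs hρ _
    · exact hzm j hj
  have := zpv_mem z ⊥ (fun j => by rw [Subgroup.mem_bot]; exact h1 j) 0 w
  rwa [Subgroup.mem_bot] at this

/-- if twice a unit vector and the differences of the other unit vectors with its multiples are
combinations of relations, the central elements generate a group of order at most two -/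
theorem two_case (hz : ∀ j, z j ∈ Subgroup.center Γ) (m j0 : ℕ)
    (hzm : ∀ j, m ≤ j → z j = 1)
    (ρs : List (List ℤ)) (hρ : ∀ ρ ∈ ρs, zpv z 0 ρ = 1) (eps u0 : List ℤ) (U : List (List ℤ))
    (h0 : lincomb u0 ρs = vsmul 2 (padUnit m j0))
    (hU : ∀ j < m, lincomb (U.getD j []) ρs =
      vadd (padUnit m j) (vsmul (-(eps.getD j 0)) (padUnit m j0))) :
    z j0 ^ 2 = 1 ∧ ∀ w : List ℤ, zpv z 0 w = 1 ∨ zpv z 0 w = z j0 := by
  have hsq : z j0 ^ 2 = 1 := by
    have := zpv_lincomb hz ρs hρ u0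
    rw [h0, zpv_vsmul hz, zpv_padUnit] at this
    exact_mod_cast this
  refine ⟨hsq, ?_⟩
  have h1 : ∀ j, z j ∈ Subgroup.zpowers (z j0) := by
    intro j
    rcases Nat.lt_or_ge j m with hj | hj
    · have := zpv_lincomb hz ρs hρ (U.getD j [])
      rw [hU j hj, zpv_vadd hz, zpv_vsmul hz, zpv_padUnit, zpv_padUnit] at this
      rw [Subgroup.mem_zpowers_iff]
      refine ⟨eps.getD j 0, ?_⟩
      rw [zpow_neg] at this
      exact (mul_inv_eq_one.mp this).symm
    · rw [hzm j hj]
      exact Subgroup.one_mem _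
  intro w
  have h2 := zpv_mem z (Subgroup.zpowers (z j0)) h1 0 w
  rw [Subgroup.mem_zpowers_iff] at h2
  obtain ⟨n, hn⟩ := h2
  rw [← hn]
  rcases Int.emod_two_eq_zero_or_one n with h | h
  · left
    have : n = 2 * (n / 2) := by omega
    rw [this, zpow_mul]
    have : z j0 ^ (2 : ℤ) = 1 := by exact_mod_cast hsq
    rw [this, one_zpow]
  · right
    have : n = 2 * (n / 2) + 1 := by omega
    rw [this, zpow_add, zpow_mul]
    have : z j0 ^ (2 : ℤ) = 1 := by exact_mod_cast hsq
    rw [this, one_zpow, one_mul, zpow_one]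

end Cfsg.Agent.Helper7.ModTC
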