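import Cfsg.Agent.Helper7.ModTC.StemMain

/-!
# Labelled coset tables over subgroups that need not be perfect

The generalisation of `stem_main` to a subgroup `P = ⟨x i⟩` whose first `a` generators are lifted
arbitrarily (the other generators are values of words with zero exponent sums). The elements of
`ker σ ∩ [σ⁻¹ P, σ⁻¹ P]` are products `∏ z j ^ w j` of the central values of the relators such
that the exponent sums of `∏ (rels j) ^ w j` in the first `a` generators vanish. This is seen by
running the same table in the group `Γ × Multiplicative (ℕ → ℤ)`.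
-/

set_option autoImplicit false

namespace Cfsg.Agent.Helper7.ModTC

open scoped commutatorElement

universe u v

/-- weighted sum `∑ f (j + i) * w i` -/
def wsum (f : ℕ → ℤ) : ℕ → List ℤ → ℤ
  | _, [] => 0
  | j, e :: v => e * f j + wsum f (j + 1) v

/-- the exponent sum of the generator `i` in `∏ (rels j) ^ w j` -/
def trk (rels : ℕ → List ℕ) (i : ℕ) (w : List ℤ) : ℤ :=
  wsum (fun j => (esum (rels j)).getD i 0) 0 w

section Prod

variable {Γ : Type u} {A : Type v} [Group Γ] [Group A]

theorem evL_prod (X : ℕ → Γ) (τ : ℕ → A) (l : ℕ) :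
    evL (fun i => (X i, τ i)) l = (evL X l, evL τ l) := by
  unfold evL
  split_ifs <;> rfl

theorem ev_prod (X : ℕ → Γ) (τ : ℕ → A) (w : List ℕ) :
    ev (fun i => (X i, τ i)) w = (ev X w, ev τ w) := by
  induction w with
  | nil => rfl
  | cons l w ih => rw [ev_cons, ih, evL_prod]; rfl

theorem zpv_prod (z : ℕ → Γ) (T : ℕ → A) (j : ℕ) (w : List ℤ) :
    zpv (fun i => (z i, T i)) j w = (zpv z j w, zpv T j w) := by
  induction w generalizing j with
  | nil => rfl
  | cons e w ih => rw [zpv_cons, ih]; rfl

end Prod

section Track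

/-- the tracking elements: unit vectors for the first `a` generators -/
def tau (a : ℕ) (i : ℕ) : Multiplicative (ℕ → ℤ) :=
  if i < a then Multiplicative.ofAdd (Pi.single i 1) else 1

theorem vadd_getD (u v : List ℤ) (i : ℕ) : (vadd u v).getD i 0 = u.getD i 0 + v.getD i 0 := by
  induction u generalizing v i with
  | nil => simp [vadd]
  | cons x u ih =>
    cases v with
    | nil => simp [vadd]
    | cons y v =>
      cases i with
      | zero => simp [vadd]
      | succ i => simpa [vadd] using ih v i

theorem unitv_getD (l i : ℕ) :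
    (unitv l).getD i 0 = if l / 2 = i then (if l % 2 = 0 then 1 else -1) else 0 := by
  unfold unitv
  rcases Nat.lt_trichotomy i (l / 2) with h | h | h
  · rw [List.getD_append _ _ _ _ (by simpa using h)]
    rw [if_neg (show ¬ l / 2 = i by omega)]
    simp [h]
  · subst h
    rw [List.getD_append_right _ _ _ _ (by simp)]
    simp
  · rw [List.getD_append_right _ _ _ _ (by simp; omega)]
    rw [if_neg (show ¬ l / 2 = i by omega)]
    rw [List.getD_eq_default]
    simp only [List.length_replicate, List.length_cons, List.length_nil]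
    omega

theorem toAdd_evL_tau (a l i : ℕ) (hi : i < a) :
    Multiplicative.toAdd (evL (tau a) l) i = (unitv l).getD i 0 := by
  rw [unitv_getD]
  unfold evL tau
  by_cases h : l / 2 = i
  · subst h
    rw [if_pos hi, if_pos rfl]
    split_ifs <;> simp
  · rw [if_neg h]
    split_ifs <;> simp [h]

theorem toAdd_ev_tau (a : ℕ) (w : List ℕ) (i : ℕ) (hi : i < a) :
    Multiplicative.toAdd (ev (tau a) w) i = (esum w).getD i 0 := by
  induction w with
  | nil => simp [esum]
  | cons l w ih =>
    rw [ev_cons, esum, vadd_getD, ← ih, ← toAdd_evL_tau a l i hi]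
    rfl

theorem toAdd_zpv (T : ℕ → Multiplicative (ℕ → ℤ)) (j : ℕ) (w : List ℤ) (i : ℕ) :
    Multiplicative.toAdd (zpv T j w) i = wsum (fun j => Multiplicative.toAdd (T j) i) j w := by
  induction w generalizing j with
  | nil => rfl
  | cons e w ih =>
    rw [zpv_cons, wsum, ← ih]
    simp [toAdd_mul, toAdd_zpow]

end Track

section Main

variable {Γ : Type u} {G : Type v} [Group Γ] [Group G]

theorem walk_zero_spec (C : Cert) {X z : ℕ → Γ} (hz : ∀ j, z j ∈ Subgroup.center Γ)
    (hv : ∀ c l, c < C.N → l < C.nl → C.Valid X z c l) (htw0 : C.tw 0 = [])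
    {bd : ℕ} {w : List ℕ} {v : List ℤ} (h : C.walk bd 0 w = some (0, v)) :
    ev X w = zpv z 0 v := by
  have := Cert.walk_sound C hz bd (fun c l hc hl _ => hv c l hc hl) _ _ _ _ h
  unfold Cert.rep at this
  rwa [htw0, ev_nil, one_mul, mul_one] at this

theorem stem_gen [Finite Γ] (σ : Γ →* G) (hσ : Cfsg.IsStemExtension σ)
    (C : Cert) (a k m : ℕ) (rels zws : ℕ → List ℕ) (x : ℕ → G)
    (hnl : C.nl = 2 * k) (hbase : C.base = mkBase m k rels zws)
    (hx : ∀ i, k ≤ i → x i = 1) (hzws : ∀ i, k ≤ i → zws i = [])
    (hG1 : ∀ b < m, ev x (rels b) = 1)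
    (hG2 : ∀ i < k, ev x (zws i) = x i)
    (hfree : ∀ i < a, zws i = [2 * i])
    (hG3 : ∀ i, a ≤ i → i < k → Cert.isZero (esum (zws i)) = true)
    (hG4 : ∀ c < C.N, ∀ c' < C.N, ev x (C.tw c) = ev x (C.tw c') → c = c')
    (htw0 : C.tw 0 = []) (hN : 0 < C.N)
    (hchk : ∀ c l, c < C.N → l < C.nl → C.chkEdge c l = true) :
    Nat.card (Subgroup.closure (Set.range x)) = C.N ∧
    ∃ X z : ℕ → Γ, (∀ i, σ (X i) = x i) ∧ (∀ j, z j ∈ σ.ker) ∧ (∀ j, m ≤ j → z j = 1) ∧
      (∀ bd b s ρ, C.relVec bd b s = some ρ → zpv z 0 ρ = 1) ∧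
      (∀ bd w v, C.walk bd 0 w = some (0, v) → ev X w = zpv z 0 v) ∧
      ∀ g ∈ σ.ker, ∃ w : List ℤ,
        g ^ (Subgroup.closure (Set.range x)).index = zpv z 0 w ∧ ∀ i < a, trk rels i w = 0 := by
  classical
  have hker : ∀ g, g ∈ σ.ker → g ∈ Subgroup.center Γ := fun g hg => hσ.2.1 hg
  -- lifts
  choose xt hxt using fun i => hσ.1 (x i)
  let X : ℕ → Γ := fun i => ev xt (zws i)
  have hσxt : (fun i => σ (xt i)) = x := funext hxt
  have hσX : ∀ i, σ (X i) = x i := by
    intro i
    show σ (ev xt (zws i)) = x i
    rw [ev_map, hσxt]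
    rcases Nat.lt_or_ge i k with hi | hi
    · exact hG2 i hi
    · rw [hzws i hi, hx i hi]; rfl
  have hσX' : (fun i => σ (X i)) = x := funext hσX
  have hXk : ∀ i, k ≤ i → X i = 1 := by
    intro i hi
    show ev xt (zws i) = 1
    rw [hzws i hi]; rfl
  let kk : ℕ → Γ := fun i => (xt i)⁻¹ * X i
  have hkk : ∀ i, kk i ∈ Subgroup.center Γ := by
    intro i
    apply hker
    rw [MonoidHom.mem_ker, map_mul, map_inv, hσX, hxt, inv_mul_cancel]
  have hXeq : X = fun i => xt i * kk i := by
    funext i
    show X i = xt i * ((xt i)⁻¹ * X i)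
    group
  have hevX : ∀ w, ev X w = ev xt w * zpv kk 0 (esum w) := by
    intro w
    rw [hXeq]
    exact ev_shift xt kk hkk w
  have hXw : ∀ i < k, ev X (zws i) = X i := by
    intro i hi
    rcases Nat.lt_or_ge i a with ha | ha
    · rw [hfree i ha, ev_cons, ev_nil, mul_one]
      unfold evL
      rw [if_pos (by omega)]
      congr 1
      omega
    · rw [hevX, Cert.isZero_spec (hG3 i ha hi), mul_one]
  -- the central elements
  let z : ℕ → Γ := fun j => if j < m then ev X (rels j) else 1
  have hzker : ∀ j, z j ∈ σ.ker := by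
    intro j
    show (if j < m then ev X (rels j) else 1) ∈ σ.ker
    split_ifs with hj
    · rw [MonoidHom.mem_ker, ev_map, hσX']
      exact hG1 j hj
    · exact Subgroup.one_mem _
  have hz : ∀ j, z j ∈ Subgroup.center Γ := fun j => hker _ (hzker j)
  have hb : C.BaseOK X z := by
    intro b
    rw [hbase]
    unfold mkBase
    split_ifs with h1 h2
    · show ev X (rels b) = zpv z 0 (padUnit m b)
      rw [zpv_padUnit]
      show ev X (rels b) = if b < m then ev X (rels b) else 1
      rw [if_pos h1]
    · show ev X ((2 * (b - m) + 1) :: zws (b - m)) = zpv z 0 (List.replicate m 0)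
      rw [zpv_replicate, ev_cons, hXw (b - m) (by omega)]
      have : evL X (2 * (b - m) + 1) = (X (b - m))⁻¹ := by
        unfold evL
        rw [if_neg (by omega)]
        congr 2
        omega
      rw [this, inv_mul_cancel]
    · rfl
  have hv : ∀ c l, c < C.N → l < C.nl → C.Valid X z c l :=
    fun c l hc hl => C.valid_all hz hb hchk hc hl
  -- images
  have hσz : ∀ w, σ (zpv z 0 w) = 1 := fun w => zpv_mem z σ.ker hzker 0 w
  have hσrep : ∀ c, σ (C.rep X c) = ev x (C.tw c) := by
    intro c
    show σ (ev X (C.tw c)) = _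
    rw [ev_map, hσX']
  have hform : ∀ g ∈ Subgroup.closure (Set.range X),
      ∃ c < C.N, ∃ w : List ℤ, g = zpv z 0 w * C.rep X c :=
    fun g hg => mem_closure_form C k X z hz hnl hXk htw0 hN hchk hv hg
  have hmap : (Subgroup.closure (Set.range X)).map σ = Subgroup.closure (Set.range x) := by
    rw [MonoidHom.map_closure, ← Set.range_comp]
    congr 2
  have hP : ∀ p ∈ Subgroup.closure (Set.range x), ∃ c < C.N, p = ev x (C.tw c) := by
    intro p hp
    rw [← hmap] at hp
    obtain ⟨g, hg, rfl⟩ := hp
    obtain ⟨c, hc, w, rfl⟩ := hform g hg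
    exact ⟨c, hc, by rw [map_mul, hσz, one_mul, hσrep]⟩
  refine ⟨?_, X, z, hσX, hzker, ?_, ?_, ?_, ?_⟩
  · -- the order of `P`
    let f : Fin C.N → Subgroup.closure (Set.range x) :=
      fun c => ⟨ev x (C.tw c.val), ev_mem_closure x _⟩
    have hbij : Function.Bijective f := by
      constructor
      · intro c c' e
        exact Fin.ext (hG4 c.val c.isLt c'.val c'.isLt (congrArg Subtype.val e))
      · rintro ⟨p, hp⟩
        obtain ⟨c, hc, rfl⟩ := hP p hp
        exact ⟨⟨c, hc⟩, rfl⟩
    rw [← Nat.card_eq_of_bijective f hbij, Nat.card_fin]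
  · intro j hj
    show (if j < m then ev X (rels j) else 1) = 1
    rw [if_neg (by omega)]
  · intro bd b s ρ h
    exact C.relVec_spec hz hb hv h
  · intro bd w v h
    exact walk_zero_spec C hz hv htw0 h
  · intro g hg
    have h1 := Cfsg.Agent.Helper96.StemBound.ker_pow_index_mem σ hσ
      (Subgroup.closure (Set.range x)) hg
    have h2 : ⁅(Subgroup.closure (Set.range x)).comap σ,
        (Subgroup.closure (Set.range x)).comap σ⁆ ≤
        ⁅Subgroup.closure (Set.range X), Subgroup.closure (Set.range X)⁆ := by
      rw [Subgroup.commutator_le]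
      have hdec : ∀ a ∈ (Subgroup.closure (Set.range x)).comap σ,
          ∃ l ∈ Subgroup.closure (Set.range X), ∃ c ∈ Subgroup.center Γ, a = l * c := by
        intro a ha
        rw [Subgroup.mem_comap, ← hmap] at ha
        obtain ⟨l, hl, e⟩ := ha
        refine ⟨l, hl, l⁻¹ * a, ?_, by group⟩
        apply hker
        rw [MonoidHom.mem_ker, map_mul, map_inv, e, inv_mul_cancel]
      intro a ha b hb'
      obtain ⟨l₁, hl₁, c₁, hc₁, rfl⟩ := hdec a ha
      obtain ⟨l₂, hl₂, c₂, hc₂, rfl⟩ := hdec b hb'
      rw [commutatorElement_mul_central _ _ _ _ hc₁ hc₂]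
      exact Subgroup.commutator_mem_commutator hl₁ hl₂
    -- the same table in the product with the tracking group
    let τ : ℕ → Multiplicative (ℕ → ℤ) := tau a
    let X' : ℕ → Γ × Multiplicative (ℕ → ℤ) := fun i => (X i, τ i)
    let T : ℕ → Multiplicative (ℕ → ℤ) := fun j => ev τ (rels j)
    let z' : ℕ → Γ × Multiplicative (ℕ → ℤ) := fun j => (z j, T j)
    have hz' : ∀ j, z' j ∈ Subgroup.center (Γ × Multiplicative (ℕ → ℤ)) := by
      intro j
      rw [Subgroup.mem_center_iff]
      rintro ⟨g1, g2⟩
      show (g1 * z j, g2 * T j) = (z j * g1, T j * g2)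
      rw [Subgroup.mem_center_iff.mp (hz j) g1, mul_comm g2]
    have hτk : ∀ i, a ≤ i → τ i = 1 := by
      intro i hi
      show tau a i = 1
      unfold tau
      rw [if_neg (by omega)]
    have hτw : ∀ i < k, ev τ (zws i) = τ i := by
      intro i hi
      rcases Nat.lt_or_ge i a with ha | ha
      · rw [hfree i ha, ev_cons, ev_nil, mul_one]
        unfold evL
        rw [if_pos (by omega)]
        congr 1
        omega
      · have h3 := ev_shift (fun _ => (1 : Multiplicative (ℕ → ℤ))) τ
          (fun i => by rw [Subgroup.mem_center_iff]; intro g; exact mul_comm _ _) (zws i)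
        simp only [one_mul] at h3
        rw [h3, Cert.isZero_spec (hG3 i ha hi), mul_one, hτk i ha]
        have : ∀ w : List ℕ, ev (fun _ => (1 : Multiplicative (ℕ → ℤ))) w = 1 := by
          intro w
          induction w with
          | nil => rfl
          | cons l w ih =>
            rw [ev_cons, ih, mul_one]
            unfold evL
            split_ifs <;> simp
        exact this _
    have hb' : C.BaseOK X' z' := by
      intro b
      rw [hbase]
      unfold mkBase
      split_ifs with h1 h2
      · show ev X' (rels b) = zpv z' 0 (padUnit m b)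
        rw [zpv_padUnit, ev_prod]
        show (ev X (rels b), ev τ (rels b)) = ((if b < m then ev X (rels b) else 1), T b)
        rw [if_pos h1]
      · show ev X' ((2 * (b - m) + 1) :: zws (b - m)) = zpv z' 0 (List.replicate m 0)
        rw [zpv_replicate, ev_prod, ev_cons, ev_cons, hXw (b - m) (by omega),
          hτw (b - m) (by omega)]
        have e1 : evL X (2 * (b - m) + 1) = (X (b - m))⁻¹ := by
          unfold evL
          rw [if_neg (by omega)]
          congr 2
          omega
        have e2 : evL τ (2 * (b - m) + 1) = (τ (b - m))⁻¹ := by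
          unfold evL
          rw [if_neg (by omega)]
          congr 2
          omega
        rw [e1, e2, inv_mul_cancel, inv_mul_cancel]
        rfl
      · rfl
    have hv' : ∀ c l, c < C.N → l < C.nl → C.Valid X' z' c l :=
      fun c l hc hl => C.valid_all hz' hb' hchk hc hl
    have hX'k : ∀ i, k ≤ i → X' i = 1 := by
      intro i hi
      show (X i, τ i) = 1
      have hak : a ≤ k := by
        by_contra hcon
        have h5 := hfree k (by omega)
        rw [hzws k le_rfl] at h5
        simp at h5
      rw [hXk i hi, hτk i (by omega)]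
      rfl
    have hform' : ∀ g ∈ Subgroup.closure (Set.range X'),
        ∃ c < C.N, ∃ w : List ℤ, g = zpv z' 0 w * C.rep X' c :=
      fun g hg => mem_closure_form C k X' z' hz' hnl hX'k htw0 hN hchk hv' hg
    -- lift the element of the derived subgroup
    have hmap' : (Subgroup.closure (Set.range X')).map
        (MonoidHom.fst Γ (Multiplicative (ℕ → ℤ))) = Subgroup.closure (Set.range X) := by
      rw [MonoidHom.map_closure, ← Set.range_comp]
      rfl
    have h3 := h2 h1
    rw [← hmap', ← Subgroup.map_commutator] at h3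
    obtain ⟨g', hg', eg'⟩ := h3
    have hsnd : g'.2 = 1 := by
      have h4 : ⁅Subgroup.closure (Set.range X'), Subgroup.closure (Set.range X')⁆ ≤
          (MonoidHom.snd Γ (Multiplicative (ℕ → ℤ))).ker := by
        rw [Subgroup.commutator_le]
        intro p _ q _
        rw [MonoidHom.mem_ker, map_commutatorElement]
        exact commutatorElement_eq_one_iff_commute.mpr (Commute.all _ _)
      exact h4 hg'
    have hmem : g' ∈ Subgroup.closure (Set.range X') := by
      have h4 : ⁅Subgroup.closure (Set.range X'), Subgroup.closure (Set.range X')⁆ ≤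
          Subgroup.closure (Set.range X') := by
        rw [Subgroup.commutator_le]
        intro p hp q hq
        rw [commutatorElement_def]
        exact Subgroup.mul_mem _ (Subgroup.mul_mem _ (Subgroup.mul_mem _ hp hq)
          (Subgroup.inv_mem _ hp)) (Subgroup.inv_mem _ hq)
      exact h4 hg'
    obtain ⟨c, hc, w, e⟩ := hform' g' hmem
    have e1 : g ^ (Subgroup.closure (Set.range x)).index = zpv z 0 w * C.rep X c := by
      rw [← eg', e]
      show (zpv z' 0 w * C.rep X' c).1 = _
      unfold Cert.rep
      rw [zpv_prod, ev_prod]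
      rfl
    have e2 : (1 : Multiplicative (ℕ → ℤ)) = zpv T 0 w * ev τ (C.tw c) := by
      rw [← hsnd, e]
      show (zpv z' 0 w * C.rep X' c).2 = _
      unfold Cert.rep
      rw [zpv_prod, ev_prod]
      rfl
    have h5 : σ (g ^ (Subgroup.closure (Set.range x)).index) = 1 := by
      rw [map_pow, MonoidHom.mem_ker.mp hg, one_pow]
    rw [e1, map_mul, hσz, one_mul, hσrep] at h5
    have h0 : ev x (C.tw 0) = 1 := by rw [htw0]; rfl
    have hc0 : c = 0 := hG4 c hc 0 hN (by rw [h5, h0])
    subst hc0
    refine ⟨w, ?_, ?_⟩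
    · rw [e1]
      show zpv z 0 w * ev X (C.tw 0) = _
      rw [htw0, ev_nil, mul_one]
    · intro i hi
      rw [htw0, ev_nil, mul_one] at e2
      have h6 := congrFun (congrArg Multiplicative.toAdd e2) i
      rw [toAdd_zpv] at h6
      unfold trk
      have h7 : (fun j => Multiplicative.toAdd (T j) i) = fun j => (esum (rels j)).getD i 0 := by
        funext j
        exact toAdd_ev_tau a (rels j) i hi
      rw [h7] at h6
      exact h6.symm

end Main

end Cfsg.Agent.Helper7.ModTC
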