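import Cfsg.Agent.Helper7.ModTC.StemGen
import Cfsg.Agent.Helper7.ModTC.Lin

/-!
# Integer combinations of relation vectors: the cyclic case with free generators
-/

set_option autoImplicit false

namespace Cfsg.Agent.Helper7.ModTC

theorem wsum_single (f : ℕ → ℤ) (j0 : ℕ) (hf : ∀ j, j ≠ j0 → f j = 0) :
    ∀ (s : ℕ) (w : List ℤ), wsum f s w = (if s ≤ j0 then w.getD (j0 - s) 0 else 0) * f j0 := by
  intro s w
  induction w generalizing s with
  | nil => simp [wsum]
  | cons e w ih =>
    rw [wsum, ih]
    rcases Nat.lt_trichotomy s j0 with h | h | h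
    · rw [if_pos (by omega), if_pos (by omega), hf s (by omega), mul_zero, zero_add]
      have : j0 - s = (j0 - (s + 1)) + 1 := by omega
      rw [this, List.getD_cons_succ]
    · subst h
      rw [if_neg (by omega), if_pos le_rfl, Nat.sub_self, List.getD_cons_zero, zero_mul, add_zero]
    · rw [if_neg (by omega), if_neg (by omega), hf s (by omega)]
      ring

variable {Γ : Type*} [Group Γ] {z : ℕ → Γ}

theorem zpv_mem_of (H : Subgroup Γ) (s : ℕ) (w : List ℤ)
    (h : ∀ i, w.getD i 0 ≠ 0 → z (s + i) ∈ H) : zpv z s w ∈ H := by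
  induction w generalizing s with
  | nil => exact Subgroup.one_mem _
  | cons e w ih =>
    rw [zpv_cons]
    apply Subgroup.mul_mem
    · by_cases he : e = 0
      · rw [he, zpow_zero]; exact Subgroup.one_mem _
      · exact Subgroup.zpow_mem _ (by simpa using h 0 (by simpa using he)) e
    · apply ih
      intro i hi
      have := h (i + 1) (by simpa using hi)
      rwa [show s + (i + 1) = s + 1 + i by omega] at this

/-- if `n` times a unit vector and the differences of the other unit vectors (from `lo` on) with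
its multiples are combinations of relations, the products of the central elements with exponents
vanishing below `lo` lie in the cyclic group generated by `z j0`, of order dividing `n` -/
theorem cyc_case (hz : ∀ j, z j ∈ Subgroup.center Γ) (m j0 lo : ℕ) (n : ℤ)
    (hzm : ∀ j, m ≤ j → z j = 1)
    (ρs : List (List ℤ)) (hρ : ∀ ρ ∈ ρs, zpv z 0 ρ = 1) (eps u0 : List ℤ) (U : List (List ℤ))
    (h0 : lincomb u0 ρs = vsmul n (padUnit m j0))
    (hU : ∀ j, lo ≤ j → j < m → lincomb (U.getD j []) ρs =
      vadd (padUnit m j) (vsmul (-(eps.getD j 0)) (padUnit m j0))) :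
    z j0 ^ n = 1 ∧ ∀ w : List ℤ, (∀ j < lo, w.getD j 0 = 0) →
      zpv z 0 w ∈ Subgroup.zpowers (z j0) := by
  have hsq : z j0 ^ n = 1 := by
    have := zpv_lincomb hz ρs hρ u0
    rwa [h0, zpv_vsmul hz, zpv_padUnit] at this
  refine ⟨hsq, ?_⟩
  have h1 : ∀ j, lo ≤ j → z j ∈ Subgroup.zpowers (z j0) := by
    intro j hlo
    rcases Nat.lt_or_ge j m with hj | hj
    · have := zpv_lincomb hz ρs hρ (U.getD j [])
      rw [hU j hlo hj, zpv_vadd hz, zpv_vsmul hz, zpv_padUnit, zpv_padUnit] at this
      rw [Subgroup.mem_zpowers_iff]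
      refine ⟨eps.getD j 0, ?_⟩
      rw [zpow_neg] at this
      exact (mul_inv_eq_one.mp this).symm
    · rw [hzm j hj]
      exact Subgroup.one_mem _
  intro w hw
  apply zpv_mem_of
  intro i hi
  rw [zero_add]
  apply h1
  by_contra hcon
  exact hi (hw i (by omega))

end Cfsg.Agent.Helper7.ModTC
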