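import Mathlib

/-!
# Labelled coset tables (modified Todd–Coxeter certificates)

A group `Γ` with elements `X i` and central elements `z j`. A certificate is a finite graph (the
Cayley graph of a quotient `P` of `⟨X i⟩`) whose nodes `c` carry words `tw c` and whose edges carry
integer vectors `lab c l`, such that `ev X (tw c) * evL X l = zpv z (lab c l) * ev X (tw (tab c l))`.
The edges are justified one at a time, in the order of a rank function, each from a closed walk along
a word whose value is a known central element.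
-/

set_option autoImplicit false

namespace Cfsg.Agent.Helper7.ModTC

/-- the inverse letter: `2 i ↔ 2 i + 1` -/
def invL (l : ℕ) : ℕ := if l % 2 = 0 then l + 1 else l - 1

/-- the inverse word -/
def invW (w : List ℕ) : List ℕ := (w.map invL).reverse

/-- rotation of a word -/
def rot (r : ℕ) (w : List ℕ) : List ℕ := w.drop r ++ w.take r

/-- addition of integer vectors, keeping the longer tail -/
def vadd : List ℤ → List ℤ → List ℤ
  | [], b => b
  | x :: a, [] => x :: a
  | x :: a, y :: b => (x + y) :: vadd a b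

/-- negation of integer vectors -/
def vneg (a : List ℤ) : List ℤ := a.map fun x => -x

/-- scalar multiple -/
def vsmul (n : ℤ) (a : List ℤ) : List ℤ := a.map fun x => n * x

section Group

variable {Γ : Type*} [Group Γ]

/-- value of a letter: `2 i ↦ X i`, `2 i + 1 ↦ (X i)⁻¹` -/
def evL (X : ℕ → Γ) (l : ℕ) : Γ := if l % 2 = 0 then X (l / 2) else (X (l / 2))⁻¹

/-- value of a word -/
def ev (X : ℕ → Γ) : List ℕ → Γ
  | [] => 1
  | l :: w => evL X l * ev X w

@[simp] theorem ev_nil (X : ℕ → Γ) : ev X [] = 1 := rfl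

@[simp] theorem ev_cons (X : ℕ → Γ) (l : ℕ) (w : List ℕ) : ev X (l :: w) = evL X l * ev X w := rfl

theorem ev_append (X : ℕ → Γ) (u w : List ℕ) : ev X (u ++ w) = ev X u * ev X w := by
  induction u with
  | nil => simp
  | cons l u ih => simp [ih, mul_assoc]

theorem ev_singleton (X : ℕ → Γ) (l : ℕ) : ev X [l] = evL X l := by simp

theorem evL_invL (X : ℕ → Γ) (l : ℕ) : evL X (invL l) = (evL X l)⁻¹ := by
  unfold evL invL
  rcases Nat.mod_two_eq_zero_or_one l with h | h
  · have h1 : (l + 1) % 2 = 1 := by omega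
    have h2 : (l + 1) / 2 = l / 2 := by omega
    simp [h, h1, h2]
  · have h1 : (l - 1) % 2 = 0 := by omega
    have h2 : (l - 1) / 2 = l / 2 := by omega
    simp [h, h1, h2]

theorem ev_invW (X : ℕ → Γ) (w : List ℕ) : ev X (invW w) = (ev X w)⁻¹ := by
  induction w with
  | nil => simp [invW]
  | cons l w ih =>
    have : invW (l :: w) = invW w ++ [invL l] := by simp [invW]
    rw [this, ev_append, ih, ev_singleton, evL_invL, ev_cons, mul_inv_rev]

theorem ev_rot (X : ℕ → Γ) (r : ℕ) (w : List ℕ) (h : ev X w ∈ Subgroup.center Γ) :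
    ev X (rot r w) = ev X w := by
  have h0 : ev X w = ev X (w.take r) * ev X (w.drop r) := by
    rw [← ev_append, List.take_append_drop]
  rw [rot, ev_append]
  have hc := Subgroup.mem_center_iff.mp h (ev X (w.take r))
  rw [h0] at hc ⊢
  -- hc : t * (t * d) = (t * d) * t
  have : ev X (w.take r) * ev X (w.drop r) = ev X (w.drop r) * ev X (w.take r) := by
    have := congrArg (fun g => (ev X (w.take r))⁻¹ * g) hc
    simp only [inv_mul_cancel_left] at this
    rw [this]
    group
  exact this.symm

variable (z : ℕ → Γ)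

/-- the product `∏ z (j + i) ^ v i` -/
def zpv : ℕ → List ℤ → Γ
  | _, [] => 1
  | j, e :: v => z j ^ e * zpv (j + 1) v

@[simp] theorem zpv_nil (j : ℕ) : zpv z j [] = 1 := rfl

@[simp] theorem zpv_cons (j : ℕ) (e : ℤ) (v : List ℤ) :
    zpv z j (e :: v) = z j ^ e * zpv z (j + 1) v := rfl

variable {z} (hz : ∀ j, z j ∈ Subgroup.center Γ)

include hz

theorem zpv_mem_center (j : ℕ) (v : List ℤ) : zpv z j v ∈ Subgroup.center Γ := by
  induction v generalizing j with
  | nil => exact Subgroup.one_mem _
  | cons e v ih => exact Subgroup.mul_mem _ (Subgroup.zpow_mem _ (hz j) e) (ih (j + 1))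

theorem zpv_comm (j : ℕ) (v : List ℤ) (g : Γ) : g * zpv z j v = zpv z j v * g :=
  Subgroup.mem_center_iff.mp (zpv_mem_center hz j v) g

theorem zpv_vadd (j : ℕ) (a b : List ℤ) : zpv z j (vadd a b) = zpv z j a * zpv z j b := by
  induction a generalizing j b with
  | nil => simp [vadd]
  | cons x a ih =>
    cases b with
    | nil => simp [vadd]
    | cons y b =>
      simp only [vadd, zpv_cons, ih, zpow_add]
      have h1 := Subgroup.mem_center_iff.mp (Subgroup.zpow_mem _ (hz j) y) (zpv z (j + 1) a)
      calc z j ^ x * z j ^ y * (zpv z (j + 1) a * zpv z (j + 1) b)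
          = z j ^ x * (z j ^ y * zpv z (j + 1) a) * zpv z (j + 1) b := by group
        _ = z j ^ x * (zpv z (j + 1) a * z j ^ y) * zpv z (j + 1) b := by rw [h1]
        _ = z j ^ x * zpv z (j + 1) a * (z j ^ y * zpv z (j + 1) b) := by group

theorem zpv_vneg (j : ℕ) (a : List ℤ) : zpv z j (vneg a) = (zpv z j a)⁻¹ := by
  induction a generalizing j with
  | nil => simp [vneg]
  | cons x a ih =>
    have : vneg (x :: a) = (-x) :: vneg a := rfl
    rw [this, zpv_cons, zpv_cons, ih, mul_inv_rev, zpow_neg]
    exact (Subgroup.mem_center_iff.mp (Subgroup.inv_mem _ (Subgroup.zpow_mem _ (hz j) x))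
      (zpv z (j + 1) a)⁻¹).symm

theorem zpv_vsmul (j : ℕ) (n : ℤ) (a : List ℤ) : zpv z j (vsmul n a) = zpv z j a ^ n := by
  induction a generalizing j with
  | nil => simp [vsmul]
  | cons x a ih =>
    have : vsmul n (x :: a) = (n * x) :: vsmul n a := rfl
    rw [this, zpv_cons, zpv_cons, ih]
    have hc : Commute (z j ^ x) (zpv z (j + 1) a) :=
      (Subgroup.mem_center_iff.mp (Subgroup.zpow_mem _ (hz j) x) _).symm
    rw [hc.mul_zpow, mul_comm n x, zpow_mul]

end Group

end Cfsg.Agent.Helper7.ModTC
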