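import Cfsg.Agent.Helper7.ModTC.Basic

/-!
# Certificates for labelled coset tables and their soundness
-/

set_option autoImplicit false

namespace Cfsg.Agent.Helper7.ModTC

/-- the data of a labelled coset table with justifications -/
structure Cert where
  /-- number of nodes -/
  N : ℕ
  /-- number of letters (twice the number of generators) -/
  nl : ℕ
  /-- the table -/
  tab : ℕ → ℕ → ℕ
  /-- the word of a node -/
  tw : ℕ → List ℕ
  /-- the label of an edge -/
  lab : ℕ → ℕ → List ℤ
  /-- the rank of an edge -/
  rk : ℕ → ℕ → ℕ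
  /-- kind of justification: `0` tree edge, `1` inverse of an earlier edge, else closed walk -/
  kind : ℕ → ℕ → ℕ
  /-- index of the base word -/
  jb : ℕ → ℕ → ℕ
  /-- rotation -/
  jr : ℕ → ℕ → ℕ
  /-- inverse flag -/
  jf : ℕ → ℕ → Bool
  /-- start node of the walk -/
  js : ℕ → ℕ → ℕ
  /-- the base words with their central values -/
  base : ℕ → List ℕ × List ℤ

namespace Cert

variable (C : Cert)

/-- the word of a closed walk -/
def scanW (b r : ℕ) (f : Bool) : List ℕ :=
  rot r (if f then invW (C.base b).1 else (C.base b).1)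

/-- the value of a closed walk -/
def scanV (b : ℕ) (f : Bool) : List ℤ :=
  if f then vneg (C.base b).2 else (C.base b).2

/-- follow a word through the table along edges of rank below `bd`, summing the labels -/
def walk (bd : ℕ) : ℕ → List ℕ → Option (ℕ × List ℤ)
  | c, [] => some (c, [])
  | c, l :: w =>
    if decide (C.rk c l < bd) && decide (l < C.nl) && decide (c < C.N) then
      match walk bd (C.tab c l) w with
      | some (e, v) => some (e, vadd (C.lab c l) v)
      | none => none
    else none

/-- all entries zero -/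
def isZero (v : List ℤ) : Bool := v.all fun x => x == 0

/-- the check of one edge -/
def chkEdge (c l : ℕ) : Bool :=
  decide (C.tab c l < C.N) &&
  (match C.kind c l with
  | 0 => (C.tw (C.tab c l) == C.tw c ++ [l]) && isZero (C.lab c l)
  | 1 => (C.tab (C.tab c l) (invL l) == c) && decide (C.rk (C.tab c l) (invL l) < C.rk c l) &&
      decide (invL l < C.nl) && (C.lab c l == vneg (C.lab (C.tab c l) (invL l)))
  | _ =>
    match walk C (C.rk c l) (C.js c l) (C.scanW (C.jb c l) (C.jr c l) (C.jf c l)).dropLast with
    | some (e, v) => (e == c) &&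
        ((C.scanW (C.jb c l) (C.jr c l) (C.jf c l)).getLast? == some l) &&
        (C.tab c l == C.js c l) && (vadd v (C.lab c l) == C.scanV (C.jb c l) (C.jf c l))
    | none => false)

/-- the check of all edges at a node -/
def chkNode (c : ℕ) : Bool := (List.range C.nl).all fun l => C.chkEdge c l

/-- the check of a range of nodes -/
def chkRange (lo len : ℕ) : Bool := (List.range len).all fun i => C.chkNode (lo + i)

theorem chkRange_spec {lo len : ℕ} (h : C.chkRange lo len = true) {c l : ℕ} (h1 : lo ≤ c)
    (h2 : c < lo + len) (hl : l < C.nl) : C.chkEdge c l = true := by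
  simp only [chkRange, chkNode, List.all_eq_true, List.mem_range] at h
  have := h (c - lo) (by omega) l hl
  rwa [show lo + (c - lo) = c by omega] at this

section Sound

variable {Γ : Type*} [Group Γ] (X z : ℕ → Γ)

/-- the element of a node -/
def rep (c : ℕ) : Γ := ev X (C.tw c)

/-- validity of an edge -/
def Valid (c l : ℕ) : Prop :=
  C.rep X c * evL X l = zpv z 0 (C.lab c l) * C.rep X (C.tab c l)

variable {X z} (hz : ∀ j, z j ∈ Subgroup.center Γ)

include hz

omit hz in
theorem isZero_spec {v : List ℤ} (h : isZero v = true) (j : ℕ) : zpv z j v = 1 := by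
  induction v generalizing j with
  | nil => rfl
  | cons x v ih =>
    simp only [isZero, List.all_cons, Bool.and_eq_true, beq_iff_eq] at h
    rw [zpv_cons, h.1, zpow_zero, one_mul]
    exact ih h.2 _

theorem walk_sound (bd : ℕ)
    (hv : ∀ c l, c < C.N → l < C.nl → C.rk c l < bd → C.Valid X z c l) :
    ∀ (w : List ℕ) (c e : ℕ) (v : List ℤ), C.walk bd c w = some (e, v) →
      C.rep X c * ev X w = zpv z 0 v * C.rep X e := by
  intro w
  induction w with
  | nil =>
    intro c e v h
    simp only [walk, Option.some.injEq, Prod.mk.injEq] at h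
    obtain ⟨rfl, rfl⟩ := h
    simp
  | cons l w ih =>
    intro c e v h
    rw [walk] at h
    split_ifs at h with hc
    simp only [Bool.and_eq_true, decide_eq_true_eq] at hc
    obtain ⟨⟨h1, h2⟩, h3⟩ := hc
    cases hw : C.walk bd (C.tab c l) w with
    | none => rw [hw] at h; simp at h
    | some p =>
      obtain ⟨e', v'⟩ := p
      rw [hw] at h
      simp only [Option.some.injEq, Prod.mk.injEq] at h
      obtain ⟨rfl, rfl⟩ := h
      have hval := hv c l h3 h2 h1
      have hrec := ih _ _ _ hw
      unfold Valid at hval
      rw [ev_cons, ← mul_assoc, hval, mul_assoc, hrec, ← mul_assoc, zpv_vadd hz]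

/-- the base words have the stated central values -/
def BaseOK (X z : ℕ → Γ) : Prop := ∀ b, ev X (C.base b).1 = zpv z 0 (C.base b).2

theorem scan_spec (hb : C.BaseOK X z) (b r : ℕ) (f : Bool) :
    ev X (C.scanW b r f) = zpv z 0 (C.scanV b f) := by
  unfold scanW scanV
  cases f with
  | false =>
    simp only [Bool.false_eq_true, if_false]
    rw [ev_rot, hb b]
    rw [hb b]
    exact zpv_mem_center hz _ _
  | true =>
    simp only [if_true]
    rw [ev_rot, ev_invW, hb b, zpv_vneg hz]
    rw [ev_invW, hb b]
    exact Subgroup.inv_mem _ (zpv_mem_center hz _ _)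

theorem valid_of_chk (hb : C.BaseOK X z)
    (hchk : ∀ c l, c < C.N → l < C.nl → C.chkEdge c l = true) :
    ∀ n c l, c < C.N → l < C.nl → C.rk c l < n → C.Valid X z c l := by
  intro n
  induction n with
  | zero => intro c l _ _ h; omega
  | succ n ih =>
    intro c l hc hl hr
    have hck := hchk c l hc hl
    unfold chkEdge at hck
    simp only [Bool.and_eq_true, decide_eq_true_eq] at hck
    obtain ⟨hd, hk⟩ := hck
    split at hk
    · -- tree edge
      simp only [Bool.and_eq_true, beq_iff_eq] at hk
      obtain ⟨h1, h2⟩ := hk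
      unfold Valid rep
      rw [h1, ev_append, ev_singleton, isZero_spec h2, one_mul]
    · -- inverse edge
      simp only [Bool.and_eq_true, beq_iff_eq, decide_eq_true_eq] at hk
      obtain ⟨⟨⟨h1, h2⟩, h3⟩, h4⟩ := hk
      have hv := ih (C.tab c l) (invL l) hd h3 (by omega)
      unfold Valid at hv ⊢
      rw [h1, evL_invL] at hv
      rw [h4, zpv_vneg hz]
      -- hv : rep d * (evL l)⁻¹ = ζ * rep c
      have hcm := zpv_comm hz 0 (C.lab (C.tab c l) (invL l)) (C.rep X c)
      calc C.rep X c * evL X l
          = (zpv z 0 (C.lab (C.tab c l) (invL l)))⁻¹ *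
              (zpv z 0 (C.lab (C.tab c l) (invL l)) * C.rep X c) * evL X l := by group
        _ = (zpv z 0 (C.lab (C.tab c l) (invL l)))⁻¹ *
              (C.rep X (C.tab c l) * (evL X l)⁻¹) * evL X l := by rw [hv]
        _ = (zpv z 0 (C.lab (C.tab c l) (invL l)))⁻¹ * C.rep X (C.tab c l) := by group
    · -- closed walk
      cases hw : C.walk (C.rk c l) (C.js c l)
          (C.scanW (C.jb c l) (C.jr c l) (C.jf c l)).dropLast with
      | none => rw [hw] at hk; simp at hk
      | some p =>
        obtain ⟨e, v⟩ := p
        rw [hw] at hk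
        simp only [Bool.and_eq_true, beq_iff_eq] at hk
        obtain ⟨⟨⟨h1, h2⟩, h3⟩, h4⟩ := hk
        subst h1
        have hws := walk_sound C hz (C.rk e l)
          (fun c' l' hc' hl' hr' => ih c' l' hc' hl' (by omega)) _ _ _ _ hw
        have hsc := scan_spec C hz hb (C.jb e l) (C.jr e l) (C.jf e l)
        have hsplit : (C.scanW (C.jb e l) (C.jr e l) (C.jf e l)).dropLast ++ [l] =
            C.scanW (C.jb e l) (C.jr e l) (C.jf e l) :=
          List.dropLast_append_getLast? l (by rw [h2]; rfl)
        rw [← hsplit, ev_append, ev_singleton] at hsc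
        unfold Valid
        rw [h3]
        -- hws : rep s * ev w' = ζv * rep e ; hsc : ev w' * evL l = val
        have hval : zpv z 0 v * zpv z 0 (C.lab e l) = zpv z 0 (C.scanV (C.jb e l) (C.jf e l)) := by
          rw [← zpv_vadd hz, h4]
        have hcm := zpv_comm hz 0 (C.scanV (C.jb e l) (C.jf e l)) (C.rep X (C.js e l))
        have hcv := zpv_comm hz 0 v (C.rep X e * evL X l)
        have e1 : zpv z 0 v * (C.rep X e * evL X l) =
            zpv z 0 v * (zpv z 0 (C.lab e l) * C.rep X (C.js e l)) := by
          calc zpv z 0 v * (C.rep X e * evL X l)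
              = (zpv z 0 v * C.rep X e) * evL X l := by group
            _ = C.rep X (C.js e l) *
                  (ev X (C.scanW (C.jb e l) (C.jr e l) (C.jf e l)).dropLast * evL X l) := by
                rw [← hws]; group
            _ = C.rep X (C.js e l) * zpv z 0 (C.scanV (C.jb e l) (C.jf e l)) := by rw [hsc]
            _ = zpv z 0 (C.scanV (C.jb e l) (C.jf e l)) * C.rep X (C.js e l) := hcm
            _ = zpv z 0 v * (zpv z 0 (C.lab e l) * C.rep X (C.js e l)) := by
                rw [← hval]; group
        exact mul_left_cancel e1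

/-- all edges are valid -/
theorem valid_all (hb : C.BaseOK X z)
    (hchk : ∀ c l, c < C.N → l < C.nl → C.chkEdge c l = true) {c l : ℕ} (hc : c < C.N)
    (hl : l < C.nl) : C.Valid X z c l :=
  valid_of_chk C hz hb hchk (C.rk c l + 1) c l hc hl (Nat.lt_succ_self _)

omit hz in
theorem tab_lt (hchk : ∀ c l, c < C.N → l < C.nl → C.chkEdge c l = true) {c l : ℕ} (hc : c < C.N)
    (hl : l < C.nl) : C.tab c l < C.N := by
  have hck := hchk c l hc hl
  unfold chkEdge at hck
  simp only [Bool.and_eq_true, decide_eq_true_eq] at hck
  exact hck.1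

/-- the relation vector of a closed walk along a base word -/
def relVec (bd b s : ℕ) : Option (List ℤ) :=
  match C.walk bd s (C.base b).1 with
  | some (e, v) => if e == s then some (vadd v (vneg (C.base b).2)) else none
  | none => none

theorem relVec_spec (hb : C.BaseOK X z)
    (hv : ∀ c l, c < C.N → l < C.nl → C.Valid X z c l) {bd b s : ℕ} {ρ : List ℤ}
    (h : C.relVec bd b s = some ρ) : zpv z 0 ρ = 1 := by
  unfold relVec at h
  cases hw : C.walk bd s (C.base b).1 with
  | none => rw [hw] at h; simp at h
  | some p =>
    obtain ⟨e, v⟩ := p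
    rw [hw] at h
    simp only at h
    split_ifs at h with he
    simp only [beq_iff_eq] at he
    subst he
    simp only [Option.some.injEq] at h
    subst h
    have hws := walk_sound C hz bd (fun c l hc hl _ => hv c l hc hl) _ _ _ _ hw
    rw [hb b] at hws
    rw [zpv_vadd hz, zpv_vneg hz]
    have hcm := zpv_comm hz 0 (C.base b).2 (C.rep X e)
    rw [hcm] at hws
    rw [mul_right_cancel hws, mul_inv_cancel]

end Sound

end Cert

end Cfsg.Agent.Helper7.ModTC
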