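import Cfsg.Agent.Helper7.ModTC.Cert
import Cfsg.Agent.Helper96.StemBound

/-!
# Stem extensions and labelled coset tables

For a finite stem extension `σ : Γ →* G` and a perfect subgroup `P = ⟨x i⟩` of `G`, the intersection
of `ker σ` with the derived subgroup of `σ⁻¹ P` consists of products of the central elements
`z j = r j (X)`, where the `r j` are relators of `P` and `X i = w i (x̃)` for words `w i` with zero
exponent sums and value `x i`.
-/

set_option autoImplicit false

namespace Cfsg.Agent.Helper7.ModTC

open scoped commutatorElement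

universe u v

/-- the exponent vector of a letter -/
def unitv (l : ℕ) : List ℤ := List.replicate (l / 2) 0 ++ [if l % 2 = 0 then 1 else -1]

/-- the exponent sums of a word -/
def esum : List ℕ → List ℤ
  | [] => []
  | l :: w => vadd (unitv l) (esum w)

/-- the unit vector of length `m` at `b` -/
def padUnit (m b : ℕ) : List ℤ := List.replicate b 0 ++ (1 : ℤ) :: List.replicate (m - b - 1) 0

/-- the base words: relators with their own central values, and the words `(X i)⁻¹ * w i` with
value `1` -/
def mkBase (m k : ℕ) (rels zws : ℕ → List ℕ) (b : ℕ) : List ℕ × List ℤ :=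
  if b < m then (rels b, padUnit m b)
  else if b < m + k then ((2 * (b - m) + 1) :: zws (b - m), List.replicate m 0)
  else ([], [])

section Group

variable {Γ : Type u} [Group Γ]

theorem zpv_replicate_append (z : ℕ → Γ) (j n : ℕ) (v : List ℤ) :
    zpv z j (List.replicate n 0 ++ v) = zpv z (j + n) v := by
  induction n generalizing j with
  | zero => simp
  | succ n ih =>
    rw [List.replicate_succ, List.cons_append, zpv_cons, zpow_zero, one_mul, ih]
    congr 1
    omega

theorem zpv_replicate (z : ℕ → Γ) (j n : ℕ) : zpv z j (List.replicate n 0) = 1 := by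
  have := zpv_replicate_append z j n []
  simpa using this

theorem zpv_unitv (k : ℕ → Γ) (l : ℕ) : zpv k 0 (unitv l) = evL k l := by
  unfold unitv evL
  rw [zpv_replicate_append, zpv_cons, zpv_nil, mul_one, zero_add]
  split_ifs <;> simp

theorem zpv_padUnit (z : ℕ → Γ) (m b : ℕ) : zpv z 0 (padUnit m b) = z b := by
  unfold padUnit
  rw [zpv_replicate_append, zpv_cons, zpv_replicate, zero_add, zpow_one, mul_one]

theorem ev_shift (Y k : ℕ → Γ) (hk : ∀ i, k i ∈ Subgroup.center Γ) (w : List ℕ) :
    ev (fun i => Y i * k i) w = ev Y w * zpv k 0 (esum w) := by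
  induction w with
  | nil => simp [esum]
  | cons l w ih =>
    have hl : evL (fun i => Y i * k i) l = evL Y l * evL k l := by
      unfold evL
      split_ifs
      · rfl
      · rw [mul_inv_rev]
        exact (Subgroup.mem_center_iff.mp (Subgroup.inv_mem _ (hk (l / 2))) _).symm
    have hc : evL k l ∈ Subgroup.center Γ := by
      unfold evL
      split_ifs
      · exact hk _
      · exact Subgroup.inv_mem _ (hk _)
    have hcm := Subgroup.mem_center_iff.mp hc (ev Y w)
    rw [ev_cons, ev_cons, ih, hl, esum, zpv_vadd hk, zpv_unitv]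
    calc evL Y l * evL k l * (ev Y w * zpv k 0 (esum w))
        = evL Y l * (evL k l * ev Y w) * zpv k 0 (esum w) := by group
      _ = evL Y l * (ev Y w * evL k l) * zpv k 0 (esum w) := by rw [hcm]
      _ = evL Y l * ev Y w * (evL k l * zpv k 0 (esum w)) := by group

theorem evL_map {G : Type v} [Group G] (σ : Γ →* G) (Y : ℕ → Γ) (l : ℕ) :
    σ (evL Y l) = evL (fun i => σ (Y i)) l := by
  unfold evL
  split_ifs <;> simp

theorem ev_map {G : Type v} [Group G] (σ : Γ →* G) (Y : ℕ → Γ) (w : List ℕ) :
    σ (ev Y w) = ev (fun i => σ (Y i)) w := by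
  induction w with
  | nil => simp
  | cons l w ih => rw [ev_cons, map_mul, ih, evL_map, ev_cons]

theorem evL_mem_closure (Y : ℕ → Γ) (l : ℕ) : evL Y l ∈ Subgroup.closure (Set.range Y) := by
  unfold evL
  split_ifs
  · exact Subgroup.subset_closure ⟨_, rfl⟩
  · exact Subgroup.inv_mem _ (Subgroup.subset_closure ⟨_, rfl⟩)

theorem ev_mem_closure (Y : ℕ → Γ) (w : List ℕ) : ev Y w ∈ Subgroup.closure (Set.range Y) := by
  induction w with
  | nil => exact Subgroup.one_mem _
  | cons l w ih => exact Subgroup.mul_mem _ (evL_mem_closure Y l) ih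

theorem zpv_mem (z : ℕ → Γ) (H : Subgroup Γ) (hz : ∀ j, z j ∈ H) (j : ℕ) (v : List ℤ) :
    zpv z j v ∈ H := by
  induction v generalizing j with
  | nil => exact Subgroup.one_mem _
  | cons e v ih => exact Subgroup.mul_mem _ (Subgroup.zpow_mem _ (hz j) e) (ih (j + 1))

/-- every element generated by the `X i` is a central element times the element of a node -/
theorem mem_closure_form (C : Cert) (k : ℕ) (X z : ℕ → Γ) (hz : ∀ j, z j ∈ Subgroup.center Γ)
    (hnl : C.nl = 2 * k) (hX : ∀ i, k ≤ i → X i = 1) (htw0 : C.tw 0 = []) (hN : 0 < C.N)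
    (hchk : ∀ c l, c < C.N → l < C.nl → C.chkEdge c l = true)
    (hv : ∀ c l, c < C.N → l < C.nl → C.Valid X z c l) {g : Γ}
    (hg : g ∈ Subgroup.closure (Set.range X)) :
    ∃ c < C.N, ∃ w : List ℤ, g = zpv z 0 w * C.rep X c := by
  have step : ∀ (g : Γ) (l : ℕ), (∃ c < C.N, ∃ w : List ℤ, g = zpv z 0 w * C.rep X c) →
      l < C.nl → ∃ c < C.N, ∃ w : List ℤ, g * evL X l = zpv z 0 w * C.rep X c := by
    rintro g l ⟨c, hc, w, rfl⟩ hl
    refine ⟨C.tab c l, C.tab_lt hchk hc hl, vadd w (C.lab c l), ?_⟩
    have := hv c l hc hl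
    unfold Cert.Valid at this
    rw [mul_assoc, this, ← mul_assoc, zpv_vadd hz]
  induction hg using Subgroup.closure_induction_right with
  | one =>
    refine ⟨0, hN, [], ?_⟩
    simp [Cert.rep, htw0]
  | mul_right g _ y hy ih =>
    obtain ⟨i, rfl⟩ := hy
    rcases Nat.lt_or_ge i k with hi | hi
    · have h1 : evL X (2 * i) = X i := by
        unfold evL
        rw [if_pos (by omega)]
        congr 1
        omega
      rw [← h1]
      exact step g (2 * i) ih (by omega)
    · rw [hX i hi, mul_one]
      exact ih
  | mul_inv_cancel g _ y hy ih =>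
    obtain ⟨i, rfl⟩ := hy
    rcases Nat.lt_or_ge i k with hi | hi
    · have h1 : evL X (2 * i + 1) = (X i)⁻¹ := by
        unfold evL
        rw [if_neg (by omega)]
        congr 2
        omega
      rw [← h1]
      exact step g (2 * i + 1) ih (by omega)
    · rw [hX i hi, inv_one, mul_one]
      exact ih

end Group

end Cfsg.Agent.Helper7.ModTC
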